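import Cfsg.Agent.Lib.Cert.L34.M
import Cfsg.Agent.Lib.Cert.Sch2

set_option autoImplicit false
set_option maxRecDepth 100000

namespace Cfsg.Agent.Ct.L34s.S2

open Cfsg.Agent.PC

open Cfsg.Agent.Fi Cfsg.Agent.Ct
def W_t : TL := (TL.node (TL.node (TL.node (TL.node (TL.node (TL.leaf []) (TL.leaf [nat_lit 0, nat_lit 5, nat_lit 3, nat_lit 2, nat_lit 4, nat_lit 5, nat_lit 4, nat_lit 2, nat_lit 1])) (TL.leaf [nat_lit 5, nat_lit 4, nat_lit 5, nat_lit 4, nat_lit 2, nat_lit 4, nat_lit 1, nat_lit 4, nat_lit 2])) (TL.node (TL.leaf [nat_lit 4, nat_lit 1, nat_lit 2, nat_lit 4, nat_lit 2, nat_lit 5, nat_lit 2, nat_lit 4]) (TL.leaf [nat_lit 4, nat_lit 5, nat_lit 3, nat_lit 4, nat_lit 0, nat_lit 2, nat_lit 5, nat_lit 2, nat_lit 1]))) (TL.node (TL.node (TL.leaf [nat_lit 4, nat_lit 2, nat_lit 4, nat_lit 2, nat_lit 5, nat_lit 2, nat_lit 4, nat_lit 3, nat_lit 0, nat_lit 4, nat_lit 1, nat_lit 5]) (TL.leaf [nat_lit 4, nat_lit 1, nat_lit 4, nat_lit 5, nat_lit 4, nat_lit 5, nat_lit 2, nat_lit 4, nat_lit 3])) (TL.node (TL.leaf [nat_lit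 4, nat_lit 0, nat_lit 3, nat_lit 4, nat_lit 5, nat_lit 4, nat_lit 5, nat_lit 3, nat_lit 1, nat_lit 4]) (TL.leaf [nat_lit 0, nat_lit 5, nat_lit 4, nat_lit 5, nat_lit 4, nat_lit 2, nat_lit 4, nat_lit 5, nat_lit 4, nat_lit 0, nat_lit 5])))) (TL.node (TL.node (TL.node (TL.leaf [nat_lit 4, nat_lit 2, nat_lit 4, nat_lit 2, nat_lit 5, nat_lit 3, nat_lit 4, nat_lit 3, nat_lit 0, nat_lit 4, nat_lit 3]) (TL.leaf [nat_lit 5, nat_lit 4, nat_lit 5, nat_lit 4, nat_lit 2, nat_lit 3, nat_lit 0, nat_lit 4, nat_lit 5, nat_lit 4])) (TL.node (TL.leaf [nat_lit 5, nat_lit 4, nat_lit 5, nat_lit 2, nat_lit 4, nat_lit 3, nat_lit 0, nat_lit 5, nat_lit 4, nat_lit 5]) (TL.leaf [nat_lit 4, nat_lit 5, nat_lit 3, nat_lit 4]))) (TL.node (TL.node (TL.leaf [nat_lit 1, nat_lit 4, nat_lit 0, nat_lit 5, nat_lit 2, nat_lit 4, nat_lit 3, nat_lit 2]) (TL.leaf [nat_lit 1, nat_lit 5, nat_lit 4, nat_lit 5, nat_lit 3, nat_lit 4, nat_lit 5, nat_lit 0])) (TL.node (TL.leaf [nat_lit 4, nat_lit 0, nat_lit 4, nat_lit 3, nat_lit 4, nat_lit 5, nat_lit 4, nat_lit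 1, nat_lit 5]) (TL.leaf [nat_lit 5, nat_lit 4, nat_lit 5, nat_lit 2, nat_lit 4, nat_lit 3, nat_lit 0, nat_lit 5, nat_lit 4, nat_lit 5])))))
noncomputable def W (i : ℕ) : List ℕ := TL.get W_t i
def B : List ℕ := [nat_lit 0, nat_lit 2, nat_lit 4, nat_lit 1]
noncomputable def q (j : ℕ) : L34.P := ev L34.al (W j)
noncomputable def Q (j : ℕ) : ℕ → ℕ := trF L34.T (W j)
theorem md : Md L34.pt 21 B q Q 17 := (L34.md0).words' (by decide +kernel)
def I (i : ℕ) : ℕ := Nat.land (Nat.shiftRight (nat_lit 0x1c074000001e07c00000000000000000000000000000000000000000000000000000000000000000000000000000000000000000000000000000000000000000000000000000000000000000000000000000000000000000000000000000000000000000000000000000000000000000000000000000000000000000000000000000000000000000000000000000000000000000000000000000000000000000000000000000000000000000000000000000000000000000000000000000000000000000000000000000000000000000000000000000000000000000000000000000000000000000000000000641700000000000001a06c000000000000000000000000000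000000000000000000000000000000000000000000000000000000000000000000000000000000000000000000000000000000000000000601600015000000000000000000000000000000000000000000000000000000000000000000000000000000000000000000000000000000000000000000000000000000000000000000000000000000060160001403c00000000000000000000000000000000000000000000000000000000000000000000000000000000000000000000000000000000000000000000000000000000000000000000000000006016000130380a000000000000000000000000000000000000000000000000000000000000000000000000000000000000000000000000000000000000000000000000000000000000000000000000006016000120340901800000000000000000000000000000000000000000000000000000000000000000000000000000000000000000000000000000000000000000000000000000000000000000000000601600011030080140300000000000000000000000000000000000000000000000000000000000000000000000000000000000000000000000000000000000000000000000000000000000000000000060160001002c0701002004000000000000000000000000000000000000000000000000000000000000000000000000000000000000000000000000000000000000000000000000000000000000000000601600000000000000000000)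 (Nat.mul (nat_lit 10) i)) (nat_lit 1023)
def Ru_t1 : TN := (TN.node (TN.node (TN.node (TN.node (TN.leaf (nat_lit 0)) (TN.leaf (nat_lit 0x46000000000046082))) (TN.node (TN.leaf (nat_lit 0x84000000000084082)) (TN.leaf (nat_lit 0x83105000000000009101)))) (TN.node (TN.node (TN.leaf (nat_lit 0x43000000000043082)) (TN.leaf (nat_lit 0x146000000000146082))) (TN.node (TN.leaf (nat_lit 0x85000000000085082)) (TN.leaf (nat_lit 0x282000000000286082))))) (TN.node (TN.node (TN.node (TN.leaf (nat_lit 0x42000000000042082)) (TN.leaf (nat_lit 0x420c60000000000c6102))) (TN.node (TN.leaf (nat_lit 0x42000000000104082)) (TN.leaf (nat_lit 0x70441460000000001c2142)))) (TN.node (TN.node (TN.leaf (nat_lit 0x420000000000c3082)) (TN.leaf (nat_lit 0x420c6000000000008101))) (TN.node (TN.leaf (nat_lit 0x11050000000001050c2)) (TN.leaf (nat_lit 0x286000000000282082))))))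
def Ru_t2 : TN := (TN.node (TN.node (TN.node (TN.node (TN.leaf (nat_lit 266242)) (TN.leaf (nat_lit 0x86000000000086082))) (TN.node (TN.leaf (nat_lit 0x420c40000000000c4102)) (TN.leaf (nat_lit 0x1c10000000001c9082)))) (TN.node (TN.node (TN.leaf (nat_lit 0x83000000000083082)) (TN.leaf (nat_lit 0x186002))) (TN.node (TN.leaf (nat_lit 0x20c50000000000c50c2)) (TN.leaf (nat_lit 0x285000000000285082))))) (TN.node (TN.node (TN.node (TN.leaf (nat_lit 532482)) (TN.leaf (nat_lit 0x21060000000001060c2))) (TN.node (TN.leaf (nat_lit 0x45000000000045082)) (TN.leaf (nat_lit 0x1c31050000000001c1102)))) (TN.node (TN.node (TN.leaf (nat_lit 0x44000000000044082)) (TN.leaf (nat_lit 0x1c10831050000000001c8182))) (TN.node (TN.leaf (nat_lit 0x145002)) (TN.leaf (nat_lit 0xa0450000000002810c2))))))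
def Ru_t : TN := (TN.node Ru_t1 Ru_t2)
noncomputable def Ru (i : ℕ) : ℕ := TN.get Ru_t i
def D_t1 : TN := (TN.node (TN.node (TN.node (TN.node (TN.leaf (nat_lit 0x20000000000000001)) (TN.leaf (nat_lit 0x1000000010000000000000000000000000000001f000000000000000000000000000000000000000000000000000000000000000000000000))) (TN.leaf (nat_lit 0x200000000000000000000000000000000000000000000000000000000000000000000000000000000000000000000000000000000000000000000000000000001000000000000000000000000000000010000000000000000000000000000000000000000000000000000000000000000000000000000000000000011))) (TN.node (TN.leaf (nat_lit 0x200000000000000000000000000000000000000000000000000000000000000000000000100000000000000000000000000000000000000000000000000000000000000000000000000000000000000000000000000000000000000000000000000000000000000000000001f000000000000000000000009)) (TN.leaf (nat_lit 0x1e000000010000000100000000000000000000000000000000000000000000001f000000000000001f0000001e0000000000000019)))) (TN.node (TN.node (TN.leaf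 (nat_lit 0x20000000000000000000000000000000000000000000000000000000000000000000000000000000000000000000000000000000000000000000000000000000000000005)) (TN.leaf (nat_lit 0x2000000010000000100000000000000000000000000000000000000000000000000000000000000000000000000000000000000000000000000000001000000010000000100000015))) (TN.node (TN.leaf (nat_lit 0x1e000000000000000000000000000000000000000000000000000000000000000d)) (TN.leaf (nat_lit 0x200000000000000000000000000000000000000000000000000000000000000000000000000000000000000000000000100000001000000010000000000000000000000010000000100000001000000010000000100000002000000030000000200000003000000010000001d)))))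
def D_t2 : TN := (TN.node (TN.node (TN.node (TN.leaf (nat_lit 0x200000000000000000000000000000000000000000000000000000000000000000000000000000000000000000000000000000000000000000000000000000003)) (TN.leaf (nat_lit 0x10000000100000000000000000000000000000000000000000000000000000013))) (TN.node (TN.leaf (nat_lit 0x1e0000000000000000000000000000000000000000000000000000000b)) (TN.leaf (nat_lit 0x1000000000000000000000000000000000000001f0000001f000000000000000000000000000000000000000000000000000000000000000000000001000000000000001b)))) (TN.node (TN.node (TN.leaf (nat_lit 0x20000000000000000000000000000000000000000000000000000001f000000000000000000000000000000000000000000000000000000000000000000000000000000000000000000000000000000000000000000000000000000000000000000000001000000000000000000000007)) (TN.leaf (nat_lit 0x1f0000000000000000000000000000001f000000000000000000000000000000000000000000000000000000000000000000000000000000010000000000000017))) (TN.node (TN.leaf (nat_lit 0x2000000000000000000000001000000000000000000000000000000000000000000000000000000000000000000000000000000010000000f))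 (TN.leaf (nat_lit 0x20000001e0000001f00000000000000000000001f0000001f0000001f0000000100000001000000010000000100000001000000010000000100000000000000000000000000000001000000020000000100000002000000010000001f)))))
def D_t3 : TN := (TN.node D_t1 D_t2)
def D_t4 : TN := (TN.node (TN.node (TN.node (TN.node (TN.leaf (nat_lit 0x20000000000000000000000000000000000000000000000000000000000000000000000000000000000000002)) (TN.leaf (nat_lit 0x100000000000000000000000000000000000000000000000000000000000000000000001f000000000000000000000000000000000000000000000000000000000000000000000000))) (TN.leaf (nat_lit 0x10000000100000000000000000000000000000012))) (TN.node (TN.leaf (nat_lit 0x1e0000000000000000000000000000000a)) (TN.leaf (nat_lit 0x200000001000000010000000000000001000000010000000100000001000000010000001a)))) (TN.node (TN.node (TN.leaf (nat_lit 0x20000000000000000000000000000000000000000000000000000000000000000000000000000000000000000000000000000000000000000000000000000000000000000000000000000000000000006)) (TN.leaf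 (nat_lit 0x1f000000000000000000000000000000000000000000000000000000000000001f000000000000000000000000000000000000000000000000000000000000000000000000000000000000000000000016))) (TN.node (TN.leaf (nat_lit 0x20000000100000000000000000000000000000000000000000000000000000000000000000000000100000000000000000000000e)) (TN.leaf (nat_lit 0x20000001e00000000000000000000000000000000000000000000000000000000000000000000001f0000001f0000001f0000001f000000000000001f0000001f000000000000001f0000001f0000001f0000001d0000001d0000001d0000001f0000001e)))))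
def D_t5 : TN := (TN.node (TN.node (TN.node (TN.leaf (nat_lit 0x2000000000000000000000000000000000000000000000000000000000000000000000000000000000000000000000004)) (TN.leaf (nat_lit 0x2000000000000001f0000000000000014))) (TN.node (TN.leaf (nat_lit 0x1e000000000000000000000000000000000000000c)) (TN.leaf (nat_lit 0x2000000000000000000000000000000000000000100000001000000010000000000000000000000010000000100000001000000000000000100000001000000010000000000000001000000000000000000000000000000000000000000000002000000020000001c)))) (TN.node (TN.node (TN.leaf (nat_lit 0x20000000000000000000000000000000000000000000000000000000000000000000000000000000000000000000000000000000000000000000000000000000000000000000000000000000000000000000000000000000000000000000000000000000000000000000000000000000000000008)) (TN.leaf (nat_lit 0x1e0000000000000001000000010000000000000000000000000000001f00000000000000000000000000000000000000000000001f00000018))) (TN.node (TN.leaf (nat_lit 0x200000000000000010000000000000000000000000000000000000000000000000000000000000000000000000000000000000000000000000000000000000001000000000000000000000010))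 (TN.leaf (nat_lit 0x10000000100000001000000000000000000000000000000000000000100000000000000000000000000000001000000010000000000000000000000010000000100000002000000010000000100000020)))))
def D_t6 : TN := (TN.node D_t4 D_t5)
def D_t : TN := (TN.node D_t3 D_t6)
noncomputable def D (i : ℕ) : ℕ := TN.get D_t i
def La_t1 : TN := (TN.node (TN.node (TN.node (TN.node (TN.leaf (nat_lit 0x1c1e1a1e1e000007001808061a041d060a0013090700160000000002000000000000)) (TN.leaf (nat_lit 0x1e0c0a00000000090002161c0a1c071608001b101700080000000000000000000000))) (TN.leaf (nat_lit 0x161006001010000100150a020602010a17001d021a001c0000000000000000000000))) (TN.node (TN.node (TN.leaf (nat_lit 0xc001c1000001012001a14040c0403141e001a041400180000000000000000000000)) (TN.leaf (nat_lit 0xe1e0c0010100003001a04140c13020410000a051500190000000000000000000000))) (TN.leaf (nat_lit 0xe1a18101010101f001a090508050d080e000c1c1900160000000000000000000000)))) (TN.node (TN.node (TN.node (TN.leaf (nat_lit 0)) (TN.leaf (nat_lit 0))) (TN.leaf (nat_lit 0)))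 (TN.node (TN.node (TN.leaf (nat_lit 0)) (TN.leaf (nat_lit 0))) (TN.leaf (nat_lit 0)))))
def La_t2 : TN := (TN.node (TN.node (TN.node (TN.node (TN.leaf (nat_lit 0)) (TN.leaf (nat_lit 0))) (TN.leaf (nat_lit 0))) (TN.node (TN.node (TN.leaf (nat_lit 0)) (TN.leaf (nat_lit 0))) (TN.leaf (nat_lit 0)))) (TN.node (TN.node (TN.node (TN.leaf (nat_lit 0)) (TN.leaf (nat_lit 0))) (TN.leaf (nat_lit 0))) (TN.node (TN.node (TN.leaf (nat_lit 0)) (TN.leaf (nat_lit 0))) (TN.leaf (nat_lit 0)))))
def La_t3 : TN := (TN.node La_t1 La_t2)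
def La_t4 : TN := (TN.node (TN.node (TN.node (TN.node (TN.leaf (nat_lit 0)) (TN.leaf (nat_lit 0x214160010100017000e1a141614191a181f15100900180000000000000000000000))) (TN.leaf (nat_lit 0))) (TN.node (TN.node (TN.leaf (nat_lit 0)) (TN.leaf (nat_lit 0xe1e0c0010100003001a04130d13010412000a0515001a0000000000000000000000))) (TN.leaf (nat_lit 0)))) (TN.node (TN.node (TN.node (TN.leaf (nat_lit 0)) (TN.leaf (nat_lit 0))) (TN.leaf (nat_lit 0))) (TN.node (TN.node (TN.leaf (nat_lit 0)) (TN.leaf (nat_lit 0))) (TN.leaf (nat_lit 0)))))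
def La_t5 : TN := (TN.node (TN.node (TN.node (TN.node (TN.leaf (nat_lit 0)) (TN.leaf (nat_lit 0))) (TN.leaf (nat_lit 0))) (TN.node (TN.node (TN.leaf (nat_lit 0)) (TN.leaf (nat_lit 0))) (TN.leaf (nat_lit 0)))) (TN.node (TN.node (TN.node (TN.leaf (nat_lit 0)) (TN.leaf (nat_lit 0))) (TN.leaf (nat_lit 0))) (TN.node (TN.node (TN.leaf (nat_lit 0)) (TN.leaf (nat_lit 0))) (TN.leaf (nat_lit 0)))))
def La_t6 : TN := (TN.node La_t4 La_t5)
def La_t7 : TN := (TN.node La_t3 La_t6)
def La_t8 : TN := (TN.node (TN.node (TN.node (TN.node (TN.leaf (nat_lit 0)) (TN.leaf (nat_lit 0))) (TN.leaf (nat_lit 0))) (TN.node (TN.node (TN.leaf (nat_lit 0)) (TN.leaf (nat_lit 0x121c1e11010010180013110f0e100e1207000913110001000000001f000000000000))) (TN.leaf (nat_lit 0x131c1e11010010180013110f0e100e1207000913110001000000001f000000000000)))) (TN.node (TN.node (TN.node (TN.leaf (nat_lit 0)) (TN.leaf (nat_lit 0))) (TN.leaf (nat_lit 0))) (TN.node (TN.node (TN.leaf (nat_lit 0)) (TN.leaf (nat_lit 0))) (TN.leaf (nat_lit 0)))))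
def La_t9 : TN := (TN.node (TN.node (TN.node (TN.node (TN.leaf (nat_lit 0)) (TN.leaf (nat_lit 0))) (TN.leaf (nat_lit 0))) (TN.node (TN.node (TN.leaf (nat_lit 0)) (TN.leaf (nat_lit 0))) (TN.leaf (nat_lit 0)))) (TN.node (TN.node (TN.node (TN.leaf (nat_lit 0)) (TN.leaf (nat_lit 0))) (TN.leaf (nat_lit 0))) (TN.node (TN.node (TN.leaf (nat_lit 0)) (TN.leaf (nat_lit 0))) (TN.leaf (nat_lit 0)))))
def La_t10 : TN := (TN.node La_t8 La_t9)
def La_t11 : TN := (TN.node (TN.node (TN.node (TN.node (TN.leaf (nat_lit 0)) (TN.leaf (nat_lit 0))) (TN.leaf (nat_lit 0))) (TN.node (TN.node (TN.leaf (nat_lit 0)) (TN.leaf (nat_lit 0))) (TN.leaf (nat_lit 0)))) (TN.node (TN.node (TN.node (TN.leaf (nat_lit 0)) (TN.leaf (nat_lit 0))) (TN.leaf (nat_lit 0))) (TN.node (TN.node (TN.leaf (nat_lit 0)) (TN.leaf (nat_lit 0))) (TN.leaf (nat_lit 0)))))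
def La_t12 : TN := (TN.node (TN.node (TN.node (TN.node (TN.leaf (nat_lit 0)) (TN.leaf (nat_lit 0))) (TN.leaf (nat_lit 0))) (TN.node (TN.node (TN.leaf (nat_lit 0)) (TN.leaf (nat_lit 0))) (TN.leaf (nat_lit 0)))) (TN.node (TN.node (TN.node (TN.leaf (nat_lit 0)) (TN.leaf (nat_lit 0))) (TN.leaf (nat_lit 0))) (TN.node (TN.node (TN.leaf (nat_lit 0)) (TN.leaf (nat_lit 0))) (TN.leaf (nat_lit 0)))))
def La_t13 : TN := (TN.node La_t11 La_t12)
def La_t14 : TN := (TN.node La_t10 La_t13)
def La_t15 : TN := (TN.node La_t7 La_t14)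
def La_t16 : TN := (TN.node (TN.node (TN.node (TN.node (TN.leaf (nat_lit 0)) (TN.leaf (nat_lit 0x120204101010100d00161c0d140d1f1c1e00161b0b00060000000000000000000000))) (TN.leaf (nat_lit 0xa100a101010100f001b161e1a1e1f161800031e0600040000000000000000000000))) (TN.node (TN.node (TN.leaf (nat_lit 0xe1e0c0010100003001a04130c13010412000a0514001a0000000000000000000000)) (TN.leaf (nat_lit 0x40e120000000003000e0e151215030e080007070e00160000000000000000000000))) (TN.leaf (nat_lit 0x12061800101000110016171b181b13170200140407000a0000000000000000000000)))) (TN.node (TN.node (TN.node (TN.leaf (nat_lit 0)) (TN.leaf (nat_lit 0))) (TN.leaf (nat_lit 0))) (TN.node (TN.node (TN.leaf (nat_lit 0)) (TN.leaf (nat_lit 0))) (TN.leaf (nat_lit 0)))))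
def La_t17 : TN := (TN.node (TN.node (TN.node (TN.node (TN.leaf (nat_lit 0)) (TN.leaf (nat_lit 0))) (TN.leaf (nat_lit 0))) (TN.node (TN.node (TN.leaf (nat_lit 0)) (TN.leaf (nat_lit 0))) (TN.leaf (nat_lit 0)))) (TN.node (TN.node (TN.node (TN.leaf (nat_lit 0)) (TN.leaf (nat_lit 0))) (TN.leaf (nat_lit 0))) (TN.node (TN.node (TN.leaf (nat_lit 0)) (TN.leaf (nat_lit 0))) (TN.leaf (nat_lit 0)))))
def La_t18 : TN := (TN.node La_t16 La_t17)
def La_t19 : TN := (TN.node (TN.node (TN.node (TN.node (TN.leaf (nat_lit 0)) (TN.leaf (nat_lit 0))) (TN.leaf (nat_lit 0))) (TN.node (TN.node (TN.leaf (nat_lit 0)) (TN.leaf (nat_lit 0xe1e0c0010100003001a04130c13010412000a0514001a0000000001000000000000))) (TN.leaf (nat_lit 0)))) (TN.node (TN.node (TN.node (TN.leaf (nat_lit 0)) (TN.leaf (nat_lit 0))) (TN.leaf (nat_lit 0))) (TN.node (TN.node (TN.leaf (nat_lit 0)) (TN.leaf (nat_lit 0))) (TN.leaf (nat_lit 0)))))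
def La_t20 : TN := (TN.node (TN.node (TN.node (TN.node (TN.leaf (nat_lit 0)) (TN.leaf (nat_lit 0))) (TN.leaf (nat_lit 0))) (TN.node (TN.node (TN.leaf (nat_lit 0)) (TN.leaf (nat_lit 0))) (TN.leaf (nat_lit 0)))) (TN.node (TN.node (TN.node (TN.leaf (nat_lit 0)) (TN.leaf (nat_lit 0))) (TN.leaf (nat_lit 0))) (TN.node (TN.node (TN.leaf (nat_lit 0)) (TN.leaf (nat_lit 0))) (TN.leaf (nat_lit 0)))))
def La_t21 : TN := (TN.node La_t19 La_t20)
def La_t22 : TN := (TN.node La_t18 La_t21)
def La_t23 : TN := (TN.node (TN.node (TN.node (TN.node (TN.leaf (nat_lit 0)) (TN.leaf (nat_lit 0x131b1e11111010180003011f0e000e0207001913110001000000001f000000000000))) (TN.leaf (nat_lit 0))) (TN.node (TN.node (TN.leaf (nat_lit 0)) (TN.leaf (nat_lit 0x170a11101010101d00140f1401140e0f13001f1a1f00180000000000000000000000))) (TN.leaf (nat_lit 0x201040001000015000e1b0d040d141c17011e0b1e00060000000000000000000000)))) (TN.node (TN.node (TN.node (TN.leaf (nat_lit 0)) (TN.leaf (nat_lit 0))) (TN.leaf (nat_lit 0))) (TN.node (TN.node (TN.leaf (nat_lit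 0)) (TN.leaf (nat_lit 0))) (TN.leaf (nat_lit 0)))))
def La_t24 : TN := (TN.node (TN.node (TN.node (TN.node (TN.leaf (nat_lit 0)) (TN.leaf (nat_lit 0))) (TN.leaf (nat_lit 0))) (TN.node (TN.node (TN.leaf (nat_lit 0)) (TN.leaf (nat_lit 0))) (TN.leaf (nat_lit 0)))) (TN.node (TN.node (TN.node (TN.leaf (nat_lit 0)) (TN.leaf (nat_lit 0))) (TN.leaf (nat_lit 0))) (TN.node (TN.node (TN.leaf (nat_lit 0)) (TN.leaf (nat_lit 0))) (TN.leaf (nat_lit 0)))))
def La_t25 : TN := (TN.node La_t23 La_t24)
def La_t26 : TN := (TN.node (TN.node (TN.node (TN.node (TN.leaf (nat_lit 0)) (TN.leaf (nat_lit 0))) (TN.leaf (nat_lit 0))) (TN.node (TN.node (TN.leaf (nat_lit 0)) (TN.leaf (nat_lit 0))) (TN.leaf (nat_lit 0)))) (TN.node (TN.node (TN.node (TN.leaf (nat_lit 0)) (TN.leaf (nat_lit 0))) (TN.leaf (nat_lit 0))) (TN.node (TN.node (TN.leaf (nat_lit 0)) (TN.leaf (nat_lit 0))) (TN.leaf (nat_lit 0)))))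
def La_t27 : TN := (TN.node (TN.node (TN.node (TN.node (TN.leaf (nat_lit 0)) (TN.leaf (nat_lit 0))) (TN.leaf (nat_lit 0))) (TN.node (TN.node (TN.leaf (nat_lit 0)) (TN.leaf (nat_lit 0))) (TN.leaf (nat_lit 0)))) (TN.node (TN.node (TN.node (TN.leaf (nat_lit 0)) (TN.leaf (nat_lit 0))) (TN.leaf (nat_lit 0))) (TN.node (TN.node (TN.leaf (nat_lit 0)) (TN.leaf (nat_lit 0))) (TN.leaf (nat_lit 0)))))
def La_t28 : TN := (TN.node La_t26 La_t27)
def La_t29 : TN := (TN.node La_t25 La_t28)
def La_t30 : TN := (TN.node La_t22 La_t29)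
def La_t : TN := (TN.node La_t15 La_t30)
noncomputable def La (i : ℕ) : ℕ := TN.get La_t i
def Le_t : TN := (TN.node (TN.leaf (nat_lit 0x4000000000a00141c1e181e021c18001e1a10000400000000001a0d00000000)) (TN.leaf (nat_lit 0x4000000001000181c1c1e1c1c1c04001e1c16000800000000001d1b00000000)))
noncomputable def Le (i : ℕ) : ℕ := TN.get Le_t i
def C_t1 : TN := (TN.node (TN.node (TN.node (TN.node (TN.leaf (nat_lit 0)) (TN.leaf (nat_lit 0))) (TN.node (TN.leaf (nat_lit 0)) (TN.leaf (nat_lit 0)))) (TN.node (TN.node (TN.leaf (nat_lit 0)) (TN.leaf (nat_lit 0))) (TN.node (TN.leaf (nat_lit 0)) (TN.leaf (nat_lit 0))))) (TN.node (TN.node (TN.node (TN.leaf (nat_lit 0x1f00000000000000000000001f00000000000000000000000000000000000000110000000f00000000000000000000000000000000000000000000000000000000000000000000001100000000000000000000000000000000000000000000000000000010000000000000000000000000000000000000000000000000)) (TN.leaf (nat_lit 0))) (TN.node (TN.leaf (nat_lit 0)) (TN.leaf (nat_lit 0)))) (TN.node (TN.node (TN.leaf (nat_lit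 0)) (TN.leaf (nat_lit 0))) (TN.node (TN.leaf (nat_lit 0)) (TN.leaf (nat_lit 0))))))
def C_t2 : TN := (TN.node (TN.node (TN.node (TN.node (TN.leaf (nat_lit 0x100000000000000000000000000000000000000000000000000000000000000000000000000000000000000000000000000000000)) (TN.leaf (nat_lit 0))) (TN.node (TN.leaf (nat_lit 0)) (TN.leaf (nat_lit 0)))) (TN.node (TN.node (TN.leaf (nat_lit 0)) (TN.leaf (nat_lit 0))) (TN.node (TN.leaf (nat_lit 0)) (TN.leaf (nat_lit 0))))) (TN.node (TN.node (TN.node (TN.leaf (nat_lit 0x1f00000000000000000000000000000000000000000000000000000000000000000000000000000000000000000000000000000000000000000000001100000000000000000000000000000000000000000000000000000000000000000000000000000000000000000000000000000000)) (TN.leaf (nat_lit 0))) (TN.node (TN.leaf (nat_lit 0)) (TN.leaf (nat_lit 0)))) (TN.node (TN.node (TN.leaf (nat_lit 0)) (TN.leaf (nat_lit 0))) (TN.node (TN.leaf (nat_lit 0)) (TN.leaf (nat_lit 0))))))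
def C_t3 : TN := (TN.node C_t1 C_t2)
def C_t4 : TN := (TN.node (TN.node (TN.node (TN.node (TN.leaf (nat_lit 0x1e0000000000000000000000020000001e000000020000001e0000000000000000000000000000000000000000000000000000000000000000000000050000000000000000000000000000000000000000000000000000001f000000000000000000000000000000000000000000000000)) (TN.leaf (nat_lit 0))) (TN.node (TN.leaf (nat_lit 0)) (TN.leaf (nat_lit 0)))) (TN.node (TN.node (TN.leaf (nat_lit 0)) (TN.leaf (nat_lit 0))) (TN.node (TN.leaf (nat_lit 0)) (TN.leaf (nat_lit 0))))) (TN.node (TN.node (TN.node (TN.leaf (nat_lit 0x1100000000000000000000000000000000000000000000000000000000000000000000000000000000000000000000000000000000000000000000000000000000000000000000000000000000000000000000000000000000000000000000000000000000000000000000000000000000000000000000000000000000)) (TN.leaf (nat_lit 0))) (TN.node (TN.leaf (nat_lit 0)) (TN.leaf (nat_lit 0)))) (TN.node (TN.node (TN.leaf (nat_lit 0)) (TN.leaf (nat_lit 0))) (TN.node (TN.leaf (nat_lit 0)) (TN.leaf (nat_lit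 0))))))
def C_t5 : TN := (TN.node (TN.node (TN.node (TN.node (TN.leaf (nat_lit 0x1f0000000000000000000000110000000f000000110000000f0000000000000000000000000000000000000000000000000000000000000000000000030000000000000000000000000000000000000000000000000000000f000000000000000000000000000000000000000000000000)) (TN.leaf (nat_lit 0))) (TN.node (TN.leaf (nat_lit 0)) (TN.leaf (nat_lit 0)))) (TN.node (TN.node (TN.leaf (nat_lit 0)) (TN.leaf (nat_lit 0))) (TN.node (TN.leaf (nat_lit 0)) (TN.leaf (nat_lit 0))))) (TN.node (TN.node (TN.node (TN.leaf (nat_lit 0)) (TN.leaf (nat_lit 0))) (TN.node (TN.leaf (nat_lit 0)) (TN.leaf (nat_lit 0)))) (TN.node (TN.node (TN.leaf (nat_lit 0)) (TN.leaf (nat_lit 0))) (TN.node (TN.leaf (nat_lit 0)) (TN.leaf (nat_lit 0))))))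
def C_t6 : TN := (TN.node C_t4 C_t5)
def C_t : TN := (TN.node C_t3 C_t6)
noncomputable def C (i : ℕ) : ℕ := TN.get C_t i
def e (i : ℕ) : ℕ := Nat.land (Nat.shiftRight (nat_lit 36) (Nat.mul (nat_lit 3) i)) (nat_lit 7)
def U_t : TL := (TL.node (TL.node (TL.node (TL.node (TL.node (TL.leaf [nat_lit 1]) (TL.leaf [nat_lit 10])) (TL.node (TL.leaf [nat_lit 10]) (TL.leaf [nat_lit 3]))) (TL.node (TL.node (TL.leaf [nat_lit 2]) (TL.leaf [nat_lit 3])) (TL.node (TL.leaf [nat_lit 2]) (TL.leaf [nat_lit 7])))) (TL.node (TL.node (TL.node (TL.leaf [nat_lit 1]) (TL.leaf [nat_lit 4])) (TL.node (TL.leaf [nat_lit 1]) (TL.leaf [nat_lit 3]))) (TL.node (TL.node (TL.leaf [nat_lit 10]) (TL.leaf [nat_lit 10])) (TL.node (TL.leaf [nat_lit 4]) (TL.leaf [nat_lit 7]))))) (TL.node (TL.node (TL.node (TL.node (TL.leaf [nat_lit 1]) (TL.leaf [nat_lit 3])) (TL.node (TL.leaf [nat_lit 1]) (TL.leaf [nat_lit 3]))) (TL.node (TL.node (TL.leaf [nat_lit 5]) (TL.leaf [nat_lit 10])) (TL.node (TL.leaf [nat_lit 3]) (TL.leaf [nat_lit 7])))) (TL.node (TL.node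 (TL.node (TL.leaf [nat_lit 2]) (TL.leaf [nat_lit 1])) (TL.node (TL.leaf [nat_lit 2]) (TL.leaf [nat_lit 7]))) (TL.node (TL.node (TL.leaf [nat_lit 10]) (TL.leaf [nat_lit 4])) (TL.node (TL.leaf [nat_lit 4]) (TL.leaf [nat_lit 7]))))))
noncomputable def U (i : ℕ) : List ℕ := TL.get U_t i
def V1_t : TL := (TL.node (TL.node (TL.node (TL.node (TL.node (TL.leaf [nat_lit 2, nat_lit 2]) (TL.leaf [nat_lit 1, nat_lit 1])) (TL.node (TL.leaf [nat_lit 2, nat_lit 2]) (TL.leaf [nat_lit 3, nat_lit 5]))) (TL.node (TL.node (TL.leaf [nat_lit 6, nat_lit 6]) (TL.leaf [nat_lit 6, nat_lit 6])) (TL.node (TL.leaf [nat_lit 2, nat_lit 4]) (TL.leaf [nat_lit 1, nat_lit 1])))) (TL.node (TL.node (TL.node (TL.leaf [nat_lit 6, nat_lit 6]) (TL.leaf [nat_lit 4, nat_lit 4])) (TL.node (TL.leaf [nat_lit 1, nat_lit 4]) (TL.leaf [nat_lit 5, nat_lit 6]))) (TL.node (TL.node (TL.leaf [nat_lit 6, nat_lit 6]) (TL.leaf [nat_lit 1, nat_lit 6])) (TL.node (TL.leaf [nat_lit 5, nat_lit 5]) (TL.leaf [nat_lit 8, nat_lit 8]))))) (TL.node (TL.node (TL.node (TL.node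 (TL.leaf [nat_lit 5, nat_lit 5]) (TL.leaf [nat_lit 3, nat_lit 3])) (TL.node (TL.leaf [nat_lit 1, nat_lit 3]) (TL.leaf [nat_lit 4, nat_lit 4]))) (TL.node (TL.node (TL.leaf [nat_lit 6, nat_lit 6]) (TL.leaf [nat_lit 5, nat_lit 6])) (TL.node (TL.leaf [nat_lit 5, nat_lit 5]) (TL.leaf [nat_lit 9, nat_lit 9])))) (TL.node (TL.node (TL.node (TL.leaf [nat_lit 5, nat_lit 5]) (TL.leaf [nat_lit 3, nat_lit 3])) (TL.node (TL.leaf [nat_lit 2, nat_lit 3]) (TL.leaf [nat_lit 2, nat_lit 2]))) (TL.node (TL.node (TL.leaf [nat_lit 5, nat_lit 5]) (TL.leaf [nat_lit 4, nat_lit 5])) (TL.node (TL.leaf [nat_lit 6, nat_lit 6]) (TL.leaf [nat_lit 1, nat_lit 2]))))))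
noncomputable def V1 (i : ℕ) : List ℕ := TL.get V1_t i
def V2_t : TL := (TL.node (TL.node (TL.node (TL.node (TL.node (TL.leaf []) (TL.leaf [])) (TL.node (TL.leaf []) (TL.leaf [nat_lit 5, nat_lit 3, nat_lit 2]))) (TL.node (TL.node (TL.leaf []) (TL.leaf [])) (TL.node (TL.leaf [nat_lit 4, nat_lit 2]) (TL.leaf [])))) (TL.node (TL.node (TL.node (TL.leaf []) (TL.leaf [nat_lit 2, nat_lit 1])) (TL.node (TL.leaf [nat_lit 4, nat_lit 1]) (TL.leaf [nat_lit 6, nat_lit 5]))) (TL.node (TL.node (TL.leaf []) (TL.leaf [nat_lit 6, nat_lit 1])) (TL.node (TL.leaf []) (TL.leaf []))))) (TL.node (TL.node (TL.node (TL.node (TL.leaf []) (TL.leaf [nat_lit 2, nat_lit 1])) (TL.node (TL.leaf [nat_lit 3, nat_lit 1]) (TL.leaf [nat_lit 2, nat_lit 1]))) (TL.node (TL.node (TL.leaf []) (TL.leaf [nat_lit 6, nat_lit 5])) (TL.node (TL.leaf []) (TL.leaf [])))) (TL.node (TL.node (TL.node (TL.leaf []) (TL.leaf [nat_lit 2, nat_lit 1])) (TL.node (TL.leaf [nat_lit 3, nat_lit 2]) (TL.leaf []))) (TL.node (TL.node (TL.leaf []) (TL.leaf [nat_lit 5, nat_lit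 4, nat_lit 1])) (TL.node (TL.leaf []) (TL.leaf [nat_lit 2, nat_lit 1]))))))
noncomputable def V2 (i : ℕ) : List ℕ := TL.get V2_t i
def Y_t : TL := (TL.node (TL.node (TL.node (TL.leaf [nat_lit 6, nat_lit 5, nat_lit 4, nat_lit 2]) (TL.leaf [nat_lit 5])) (TL.leaf [nat_lit 6, nat_lit 5, nat_lit 4, nat_lit 2, nat_lit 1])) (TL.node (TL.node (TL.leaf [nat_lit 6, nat_lit 5, nat_lit 4]) (TL.leaf [nat_lit 6, nat_lit 4, nat_lit 3, nat_lit 2, nat_lit 1])) (TL.leaf [nat_lit 5, nat_lit 4, nat_lit 3])))
noncomputable def Y (i : ℕ) : List ℕ := TL.get Y_t i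
def O_t : TL := (TL.node (TL.node (TL.node (TL.leaf [nat_lit 0]) (TL.leaf [nat_lit 3])) (TL.leaf [nat_lit 0, nat_lit 4, nat_lit 13, nat_lit 16])) (TL.node (TL.node (TL.leaf [nat_lit 0, nat_lit 4]) (TL.leaf [nat_lit 3, nat_lit 9])) (TL.leaf [nat_lit 0, nat_lit 4, nat_lit 13, nat_lit 15, nat_lit 16, nat_lit 8, nat_lit 12, nat_lit 1])))
noncomputable def O (i : ℕ) : List ℕ := TL.get O_t i
noncomputable def f1 : ℕ → ℕ := rvE Q B (nat_lit 17) Ru
noncomputable def f2 (j : ℕ) : ℕ := rlE I Ru (nat_lit 32) (nat_lit 32) (U j) (V1 j) (V2 j) (D j)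
noncomputable def f3 : ℕ → ℕ := tgR I Ru (nat_lit 32) (nat_lit 2) (nat_lit 32) C D (nat_lit 34) La
noncomputable def f4 : ℕ → ℕ := chE Q B (nat_lit 21) (nat_lit 17) (nat_lit 6) (nat_lit 11) Y O
theorem ra0 : Nat.beq (rng f1 (nat_lit 0) (nat_lit 32)) (nat_lit 0) = true := by decide +kernel
theorem rb0 : Nat.beq (rng f2 (nat_lit 0) (nat_lit 32)) (nat_lit 0) = true := by decide +kernel
theorem rc0 : Nat.beq (rng f3 (nat_lit 0) (nat_lit 6)) (nat_lit 0) = true := by decide +kernel
theorem rd0 : Nat.beq (rng f4 (nat_lit 0) (nat_lit 6)) (nat_lit 0) = true := by decide +kernel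
theorem h1 : ∀ i < 32, f1 i = 0 := by
  have h := zero_lt_zero f1
  have h := zero_lt_add (a := (nat_lit 0)) (n := (nat_lit 32)) (b := (nat_lit 32)) h ra0 rfl
  exact h
theorem h2 : ∀ i < 32, f2 i = 0 := by
  have h := zero_lt_zero f2
  have h := zero_lt_add (a := (nat_lit 0)) (n := (nat_lit 32)) (b := (nat_lit 32)) h rb0 rfl
  exact h
theorem h3 : ∀ i < 6, f3 i = 0 := by
  have h := zero_lt_zero f3
  have h := zero_lt_add (a := (nat_lit 0)) (n := (nat_lit 6)) (b := (nat_lit 6)) h rc0 rfl
  exact h
theorem h4 : ∀ i < 6, f4 i = 0 := by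
  have h := zero_lt_zero f4
  have h := zero_lt_add (a := (nat_lit 0)) (n := (nat_lit 6)) (b := (nat_lit 6)) h rd0 rfl
  exact h
theorem nok : NoK (L34.P) (2 ^ (4 + 1)) := fun _ _ _ _ h =>
  (md.rv (I := I) (K := 32) rfl ⟨rfl, by decide⟩ (upTo_beq (by decide +kernel)) h1).core h (by norm_num)
    (md.syl (by norm_num) rfl (by decide) h4) (by rw [L34.card]; decide) (n := 32) (s := 2) (e := e) (L := Le) (C := C)
    ⟨rfl, by decide, rfl, by decide, by decide, rfl, by decide⟩ h2 (upTo_beq (by decide +kernel)) (upTo_beq (by decide +kernel)) h3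

end Cfsg.Agent.Ct.L34s.S2
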