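import Cfsg.Agent.Lib.Cert.L34s.UV

set_option autoImplicit false
set_option maxRecDepth 100000

namespace Cfsg.Agent.Ct.L34s.V0

open Cfsg.Agent.PC

open Cfsg.Agent.Fi Cfsg.Agent.Ct
def Ef_t : TN := (TN.leaf (nat_lit 0x26abb3578e679214c03f08180fc18c6dcb4f98ce5e8749eaf94559db02460c025bda182d0271b3c793d255833c903aaa3f6821b7c9d2c3461b1a4e4c0150c9c33baa6e8e773e04fc90985834018555baa9e7ce33bd84a2c0f02090e546109))
noncomputable def Ef (i : ℕ) : ℕ := get9 Ef_t (nat_lit 6) (nat_lit 63) i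
noncomputable def E (j c : ℕ) : ℕ := Ef (Nat.add (Nat.mul j (nat_lit 21)) c)
def iw (i : ℕ) : ℕ := Nat.land (Nat.shiftRight (nat_lit 181889) (Nat.mul (nat_lit 3) i)) (nat_lit 7)
def a (i : ℕ) : ℕ := Nat.land (Nat.shiftRight (nat_lit 1) (Nat.mul (nat_lit 1) i)) (nat_lit 1)
def ws : List (List ℕ × ℕ) := [([nat_lit 0, nat_lit 0, nat_lit 0], (nat_lit 0)), ([nat_lit 0, nat_lit 2, nat_lit 0, nat_lit 2, nat_lit 0, nat_lit 2], (nat_lit 0)), ([nat_lit 0, nat_lit 3, nat_lit 0, nat_lit 3, nat_lit 0, nat_lit 3], (nat_lit 0)), ([nat_lit 2, nat_lit 3, nat_lit 2, nat_lit 3], (nat_lit 0)), ([nat_lit 0, nat_lit 3, nat_lit 2, nat_lit 0, nat_lit 3, nat_lit 2, nat_lit 0, nat_lit 3, nat_lit 2], (nat_lit 0)), ([nat_lit 0, nat_lit 4, nat_lit 0, nat_lit 4, nat_lit 0, nat_lit 4], (nat_lit 0)), ([nat_lit 0, nat_lit 2, nat_lit 4, nat_lit 0, nat_lit 2, nat_lit 4, nat_lit 0, nat_lit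 2, nat_lit 4], (nat_lit 0)), ([nat_lit 0, nat_lit 4, nat_lit 2, nat_lit 0, nat_lit 4, nat_lit 2, nat_lit 0, nat_lit 4, nat_lit 2], (nat_lit 0)), ([nat_lit 4, nat_lit 2, nat_lit 1, nat_lit 3, nat_lit 4, nat_lit 2, nat_lit 1, nat_lit 3], (nat_lit 1)), ([nat_lit 0, nat_lit 5, nat_lit 0, nat_lit 5], (nat_lit 0)), ([nat_lit 5, nat_lit 2, nat_lit 5, nat_lit 0, nat_lit 3, nat_lit 0, nat_lit 2, nat_lit 0], (nat_lit 0)), ([nat_lit 5, nat_lit 4, nat_lit 0, nat_lit 5, nat_lit 3, nat_lit 1, nat_lit 4, nat_lit 5, nat_lit 1, nat_lit 3, nat_lit 1, nat_lit 4, nat_lit 0, nat_lit 3, nat_lit 0], (nat_lit 0)), ([nat_lit 0, nat_lit 1], (nat_lit 0)), ([nat_lit 1, nat_lit 0], (nat_lit 0)), ([nat_lit 2, nat_lit 2], (nat_lit 0)), ([nat_lit 3, nat_lit 3], (nat_lit 0)), ([nat_lit 4, nat_lit 4], (nat_lit 0)), ([nat_lit 5, nat_lit 5], (nat_lit 0)), ([nat_lit 4, nat_lit 2, nat_lit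 4, nat_lit 3, nat_lit 5, nat_lit 2, nat_lit 4, nat_lit 2, nat_lit 0, nat_lit 5, nat_lit 4, nat_lit 5, nat_lit 1, nat_lit 1, nat_lit 5, nat_lit 1, nat_lit 2, nat_lit 3, nat_lit 4, nat_lit 5, nat_lit 4, nat_lit 0, nat_lit 5, nat_lit 4, nat_lit 5, nat_lit 1, nat_lit 2, nat_lit 4, nat_lit 2, nat_lit 5, nat_lit 3, nat_lit 4, nat_lit 2, nat_lit 4, nat_lit 1, nat_lit 4, nat_lit 5, nat_lit 4, nat_lit 3, nat_lit 2, nat_lit 0, nat_lit 5, nat_lit 0, nat_lit 0], (nat_lit 1)), ([nat_lit 4, nat_lit 3, nat_lit 0, nat_lit 4, nat_lit 1, nat_lit 3, nat_lit 4, nat_lit 5, nat_lit 3, nat_lit 4, nat_lit 3, nat_lit 5, nat_lit 4, nat_lit 3, nat_lit 4, nat_lit 5, nat_lit 4, nat_lit 5, nat_lit 5, nat_lit 4, nat_lit 3, nat_lit 0, nat_lit 4, nat_lit 1, nat_lit 3, nat_lit 4, nat_lit 5, nat_lit 4, nat_lit 5, nat_lit 4, nat_lit 3, nat_lit 4, nat_lit 5, nat_lit 3, nat_lit 4, nat_lit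 3], (nat_lit 0)), ([nat_lit 1, nat_lit 3, nat_lit 5, nat_lit 4, nat_lit 2, nat_lit 0, nat_lit 4, nat_lit 3, nat_lit 4, nat_lit 3, nat_lit 5, nat_lit 4, nat_lit 1, nat_lit 2, nat_lit 4, nat_lit 5, nat_lit 3, nat_lit 0, nat_lit 4, nat_lit 5, nat_lit 3, nat_lit 4, nat_lit 3, nat_lit 4], (nat_lit 0))]
noncomputable def f1 : ℕ → ℕ := permE (mT E (nat_lit 3)) iw (nat_lit 63) (nat_lit 6)
noncomputable def f2 : ℕ → ℕ := scE E (nat_lit 3) ws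
theorem ca0 : Nat.beq (rng f1 (nat_lit 0) (nat_lit 63)) (nat_lit 0) = true := by decide +kernel
theorem cb0 : Nat.beq (rng f2 (nat_lit 0) (nat_lit 21)) (nat_lit 0) = true := by decide +kernel
theorem h1 : ∀ i < 63, f1 i = 0 := by
  have h := zero_lt_zero f1
  have h := zero_lt_add (a := (nat_lit 0)) (n := (nat_lit 63)) (b := (nat_lit 63)) h ca0 rfl
  exact h
theorem h2 : ∀ i < 21, f2 i = 0 := by
  have h := zero_lt_zero f2
  have h := zero_lt_add (a := (nat_lit 0)) (n := (nat_lit 21)) (b := (nat_lit 21)) h cb0 rfl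
  exact h
theorem cov : Cov L34.inv L34.rels 6 U V [3, 1, 1] := cov_of (M := 62) (N := 21) rfl (by decide +kernel) h1 h2 a (by decide +kernel)

end Cfsg.Agent.Ct.L34s.V0
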